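import Cfsg.Agent.Lib.SympPrimeGraph.Commutant
import Cfsg.Agent.Lib.Classical.SympPrimeOrder
import Cfsg.Agent.Lib.Classical.SympOrder
import Cfsg.Agent.Lib.Schur.SpFam
import Cfsg.Agent.Lib.FormRep.Symplectic
import Cfsg.Prelude.Def_Classical

/-!
Adjacency of the characteristic and another odd prime in the prime graph of the symplectic groups.
-/

set_option autoImplicit false
set_option linter.unusedSectionVars false
set_option linter.style.haveILetI false

namespace CfsgLib.SympPrimeGraph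

open Polynomial UniqueFactorizationMonoid CfsgLib.Classical CfsgLib.Classical.SympTrans
open CfsgLib.Classical.UnitaryTwistPoly CfsgLib.Classical.SympPrimeOrder CfsgLib.Classical.PrimeOrderCount

variable {F : Type*} [Field F] [Fintype F] {p : ℕ} [hp : Fact p.Prime] [CharP F p] {n : ℕ}

local notation "τ" => tw (RingHom.id F)

omit [Fintype F] in
theorem center_sq {g : Matrix.symplecticGroup (Fin n) F}
    (hg : g ∈ Subgroup.center (Matrix.symplecticGroup (Fin n) F)) : g * g = 1 := by
  obtain ⟨c, hc⟩ := (FormRep.Symplectic.center_iff g).1 hg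
  refine Subtype.ext ?_
  show (g : Matrix (Fin n ⊕ Fin n) (Fin n ⊕ Fin n) F) * g = 1
  rw [hc]
  rcases Nat.eq_zero_or_pos n with rfl | hn
  · exact Subsingleton.elim _ _
  have h := SymplecticGroup.mem_iff.1 g.2
  rw [hc, Matrix.transpose_smul, Matrix.transpose_one, Matrix.smul_mul, Matrix.one_mul,
    Matrix.mul_smul, Matrix.mul_one, smul_smul] at h
  have h1 := congrFun (congrFun h (Sum.inl ⟨0, hn⟩)) (Sum.inr ⟨0, hn⟩)
  simp [Matrix.J] at h1
  rw [Matrix.smul_mul, Matrix.one_mul, smul_smul, h1, one_smul]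

omit [Fintype F] in
theorem center_eq_bot_of_two (h2 : p = 2) {g : Matrix.symplecticGroup (Fin n) F}
    (hg : g ∈ Subgroup.center (Matrix.symplecticGroup (Fin n) F)) : g = 1 := by
  have : CharP F 2 := h2 ▸ ‹CharP F p›
  obtain ⟨c, hc⟩ := (FormRep.Symplectic.center_iff g).1 hg
  refine Subtype.ext ?_
  show (g : Matrix (Fin n ⊕ Fin n) (Fin n ⊕ Fin n) F) = 1
  rcases Nat.eq_zero_or_pos n with rfl | hn
  · exact Subsingleton.elim _ _
  have h := congrArg Subtype.val (center_sq hg)
  change (g : Matrix (Fin n ⊕ Fin n) (Fin n ⊕ Fin n) F) * g = 1 at h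
  rw [hc, Matrix.smul_mul, Matrix.one_mul, smul_smul] at h
  have h1 := congrFun (congrFun h (Sum.inl ⟨0, hn⟩)) (Sum.inl ⟨0, hn⟩)
  simp at h1
  have : c = 1 := by
    have e : (c - 1) * (c - 1) = 0 := by
      linear_combination h1 + (1 - c) * (CharTwo.two_eq_zero (R := F))
    exact sub_eq_zero.1 (mul_self_eq_zero.1 e)
  rw [hc, this, one_smul]

omit hp [Fintype F] [CharP F p] in
theorem eval_neg_one_of_palindromic {P : F[X]} (hrev : P.reverse = P) (hodd : Odd P.natDegree) :
    P.eval (-1) = 0 := by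
  set d := P.natDegree
  have hco : ∀ i ≤ d, P.coeff (d - i) = P.coeff i := fun i hi => by
    conv_rhs => rw [← hrev]
    rw [coeff_reverse, revAt_le hi]
  rw [eval_eq_sum_range]
  refine Finset.sum_involution (fun i _ => d - i) (fun i hi => ?_) (fun i hi _ => ?_)
    (fun i _ => Finset.mem_range.2 (by omega)) (fun i hi => ?_) <;>
  · have hi' : i ≤ d := Nat.lt_succ_iff.1 (Finset.mem_range.1 hi)
    first
    | (intro h; obtain ⟨m, hm⟩ := hodd; omega)
    | omega
    | (rw [hco i hi']
       obtain ⟨m, hm⟩ := hodd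
       rcases Nat.even_or_odd i with he | ho
       · rw [he.neg_one_pow, Odd.neg_one_pow (show Odd (d - i) from by
           obtain ⟨l, hl⟩ := he; exact ⟨m - l, by omega⟩)]
         ring
       · rw [ho.neg_one_pow, Even.neg_one_pow (show Even (d - i) from by
           obtain ⟨l, hl⟩ := ho; exact ⟨m - l, by omega⟩)]
         ring)

variable {r : ℕ}

/-- An element of order `r` with `η(e(r, q)) = n` has squarefree characteristic polynomial. -/
theorem squarefree_charpoly (hn : 2 ≤ n) (hr : r.Prime) (hrp : r ≠ p) {k : ℕ}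
    (hk : k = orderOf ((Fintype.card F : ℕ) : ZMod r)) (hcase : k = 2 * n ∨ (Odd k ∧ k = n))
    {x : Matrix.symplecticGroup (Fin n) F} (hx : orderOf x = r) :
    Squarefree (x : Matrix (Fin n ⊕ Fin n) (Fin n ⊕ Fin n) F).charpoly := by
  classical
  haveI := Fact.mk hr
  set A := (x : Matrix (Fin n ⊕ Fin n) (Fin n ⊕ Fin n) F) with hA
  set χ := A.charpoly with hχ
  have hnr : p.Coprime r := (Nat.coprime_primes hp.out hr).mpr (Ne.symm hrp)
  obtain ⟨e, -, he⟩ := FiniteField.card F p
  have hku : k = orderOf (ZMod.unitOfCoprime _ (hnr.pow_left (e : ℕ))) := by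
    rw [hk, ← orderOf_units, ZMod.coe_unitOfCoprime, ← he]
  have hsep : (X ^ r - C (1 : F)).Separable :=
    separable_X_pow_sub_C 1 (fun h => by
      rw [CharP.cast_eq_zero_iff F p] at h
      exact hrp ((Nat.prime_dvd_prime_iff_eq hp.out hr).mp h).symm) one_ne_zero
  rw [map_one] at hsep
  have hpow : A ^ r = 1 := by
    rw [hA, ← SubmonoidClass.coe_pow, ← hx, pow_orderOf_eq_one]; rfl
  have hann : aeval A (X ^ r - 1 : F[X]) = 0 := by
    rw [map_sub, map_pow, aeval_X, map_one, hpow, sub_self]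
  have hann' : aeval (Matrix.toLin' A) (X ^ r - 1 : F[X]) = 0 := by
    rw [map_sub, map_pow, aeval_X, map_one, ← Matrix.toLin'_pow, hpow, Matrix.toLin'_one]
    exact sub_self _
  have hdeg : χ.natDegree = 2 * n := by
    rw [hχ, Matrix.charpoly_natDegree_eq_dim, Fintype.card_sum, Fintype.card_fin, two_mul]
  -- every factor other than `X - 1` has degree `k`
  have hfac : ∀ P : F[X], Irreducible P → P.Monic → P ∣ χ → P = X - 1 ∨ P.natDegree = k := by
    intro P hP hPm hd
    have h1 : P ∣ X ^ r - 1 := dvd_of_dvd_charpoly hsep.squarefree hann' hP hPm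
      (by rwa [Matrix.charpoly_toLin'])
    rw [← cyclotomic_prime_mul_X_sub_one F r] at h1
    rcases hP.prime.dvd_or_dvd h1 with h | h
    · refine Or.inr ?_
      rw [hku]
      refine natDegree_of_mem_normalizedFactors_cyclotomic he hnr ?_
      rw [mem_normalizedFactors_iff' (cyclotomic_ne_zero r F)]
      exact ⟨hP, hPm.normalize_eq_self, h⟩
    · exact Or.inl (eq_of_monic_of_associated hPm (by simpa using monic_X_sub_C (1 : F))
        (hP.associated_of_dvd (by simpa using irreducible_X_sub_C (1 : F)) h))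
  -- some factor differs from `X - 1`
  obtain ⟨P, hP, hPm, hPd, hPk⟩ : ∃ P : F[X], Irreducible P ∧ P.Monic ∧ P ∣ χ ∧ P.natDegree = k := by
    by_contra hno
    push Not at hno
    have hχ1 : χ = (X - 1) ^ Multiset.card (normalizedFactors χ) := by
      conv_lhs => rw [← prod_nf (f := χ) (Matrix.charpoly_monic A)]
      have : ∀ P ∈ normalizedFactors χ, P = X - 1 := fun P hP => by
        have h1 := irreducible_of_normalized_factor P hP
        have h2 := normalizedFactor_monic (Matrix.charpoly_monic A).ne_zero hP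
        have h3 := dvd_of_mem_normalizedFactors hP
        exact (hfac P h1 h2 h3).resolve_right (hno P h1 h2 h3)
      rw [Multiset.eq_replicate_of_mem this, Multiset.prod_replicate, Multiset.card_replicate]
    have hd1 : minpoly F A ∣ χ := minpoly.dvd F A (Matrix.aeval_self_charpoly A)
    have hd2 : minpoly F A ∣ X ^ r - 1 := minpoly.dvd F A hann
    rw [hχ1] at hd1
    have hd3 : minpoly F A ∣ X - 1 :=
      (hsep.squarefree.squarefree_of_dvd hd2).isRadical _ _ hd1 |> fun h => h
    have h4 : aeval A (X - 1 : F[X]) = 0 := aeval_eq_zero_of_dvd_aeval_eq_zero hd3 (minpoly.aeval F A)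
    rw [map_sub, aeval_X, map_one, sub_eq_zero] at h4
    exact hr.ne_one (hx ▸ orderOf_eq_one_iff.2 (Subtype.ext h4))
  obtain ⟨R, hR⟩ := hPd
  have hRm : R.Monic := hPm.of_mul_monic_left (hR ▸ Matrix.charpoly_monic A)
  have hRd : k + R.natDegree = 2 * n := by
    rw [← hdeg, hR, hPm.natDegree_mul hRm, hPk]
  rcases hcase with hcase | ⟨hodd, hcase⟩
  · have : R = 1 := hRm.natDegree_eq_zero.1 (by omega)
    rw [hR, this, mul_one]
    exact hP.squarefree
  obtain ⟨hχ0, hχr⟩ := SympCompanion.charpoly_palindromic x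
  have hτχ : τ χ = χ := by rw [tw_eq_reverse hχ0]; exact hχr
  have hP0 : P.coeff 0 ≠ 0 := coeff_zero_ne_of_dvd ⟨R, hR⟩ (by rw [hχ, hA, hχ0]; exact one_ne_zero)
  have hτP : Irreducible (τ P) := by
    have hdegτ : (τ P).natDegree = k := by rw [natDegree_tw _ hP0, hPk]
    obtain ⟨Q, hQ, hQd⟩ := exists_irreducible_of_natDegree_pos (f := τ P) (by omega)
    have hQ0 : Q.coeff 0 ≠ 0 := coeff_zero_ne_of_dvd hQd (by
      rw [coeff_zero_tw _ hPm hP0]
      exact inv_ne_zero (by simpa using hP0))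
    have h := tw_dvd (RingHom.id F) hQd
    rw [tw_tw _ (fun _ => rfl) hPm hP0] at h
    have hass : Associated (τ Q) P := by
      rcases hP.isUnit_or_isUnit (a := τ Q) (b := _) h.choose_spec with hu | hu
      · exfalso
        have := natDegree_eq_zero_of_isUnit hu
        rw [natDegree_tw _ hQ0] at this
        exact hQ.natDegree_pos.ne' this
      · exact ⟨hu.unit, h.choose_spec.symm⟩
    have hQk : Q.natDegree = k := by
      rw [← natDegree_tw (RingHom.id F) hQ0, ← hPk]
      exact natDegree_eq_of_degree_eq (degree_eq_degree_of_associated hass)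
    obtain ⟨c, hc⟩ := hQd
    have hc0 : c ≠ 0 := fun h0 => (monic_tw (RingHom.id F) hP0).ne_zero (by rw [hc, h0, mul_zero])
    have : c.natDegree = 0 := by
      have := congrArg natDegree hc
      rw [natDegree_mul hQ.ne_zero hc0, hdegτ, hQk] at this
      omega
    rw [hc]
    exact (Associated.irreducible ⟨(isUnit_iff_degree_eq_zero.2 (by
      rw [degree_eq_natDegree hc0, this]; rfl)).unit, rfl⟩ hQ)
  have hne : τ P ≠ P := fun h => by
    have h1 : P.eval 1 ≠ 0 := fun h1 => by
      have := Polynomial.degree_eq_one_of_irreducible_of_root hP h1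
      rw [degree_eq_natDegree hP.ne_zero] at this
      norm_cast at this
      omega
    have hc := coeff_zero_eq_one hPm hP0 h h1
    rw [tw_eq_reverse hc] at h
    have hev := eval_neg_one_of_palindromic h (hPk.symm ▸ hodd)
    have := Polynomial.degree_eq_one_of_irreducible_of_root hP hev
    rw [degree_eq_natDegree hP.ne_zero] at this
    norm_cast at this
    omega
  have hdvd : τ P ∣ R := by
    have h : τ P ∣ P * R := by rw [← hR, ← hτχ]; exact tw_dvd _ ⟨R, hR⟩
    refine (hτP.prime.dvd_or_dvd h).resolve_left fun h' => hne ?_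
    exact eq_of_monic_of_associated (monic_tw _ hP0) hPm (hτP.associated_of_dvd hP h')
  have hReq : τ P = R := (eq_of_monic_of_dvd_of_natDegree_le (monic_tw _ hP0) hRm hdvd (by
    rw [natDegree_tw _ hP0, hPk]; omega)).symm
  rw [hR, ← hReq, squarefree_mul_iff]
  exact ⟨hP.coprime_iff_not_dvd.2 (fun h' => hne (eq_of_monic_of_associated (monic_tw _ hP0) hPm
    (hP.associated_of_dvd hτP h').symm)) |>.isRelPrime, hP.squarefree, hτP.squarefree⟩

/-- No unipotent element commutes with such an element. -/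
theorem no_commuting (hn : 2 ≤ n) (hr : r.Prime) (hrp : r ≠ p) {k : ℕ}
    (hk : k = orderOf ((Fintype.card F : ℕ) : ZMod r)) (hcase : k = 2 * n ∨ (Odd k ∧ k = n))
    {x u : Matrix.symplecticGroup (Fin n) F} (hx : orderOf x = r) (hu : orderOf u = p)
    (hc : Commute x u) : False := by
  classical
  have hsq := squarefree_charpoly hn hr hrp hk hcase hx
  set A := (x : Matrix (Fin n ⊕ Fin n) (Fin n ⊕ Fin n) F) with hA
  set B := (u : Matrix (Fin n ⊕ Fin n) (Fin n ⊕ Fin n) F) with hB
  have hsep : (X ^ r - C (1 : F)).Separable :=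
    separable_X_pow_sub_C 1 (fun h => by
      rw [CharP.cast_eq_zero_iff F p] at h
      exact hrp ((Nat.prime_dvd_prime_iff_eq hp.out hr).mp h).symm) one_ne_zero
  have hAB : A * B = B * A := congrArg Subtype.val hc.eq
  have hnil : IsNilpotent (B - 1) := ⟨p, by
    have : Nonempty (Fin n ⊕ Fin n) := ⟨Sum.inl ⟨0, by omega⟩⟩
    rw [sub_pow_char_of_commute (p := p) (Commute.one_right B), one_pow, hB,
      ← SubmonoidClass.coe_pow, ← hu, pow_orderOf_eq_one]
    exact sub_self _⟩
  have hN := eq_zero_of_squarefree (f := Matrix.toLin' A) hsep.squarefree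
    (by rw [map_sub, map_pow, aeval_X, aeval_C, map_one, ← Matrix.toLin'_pow, hA,
      ← SubmonoidClass.coe_pow, ← hx, pow_orderOf_eq_one]
        show Matrix.toLin' (1 : Matrix (Fin n ⊕ Fin n) (Fin n ⊕ Fin n) F) - 1 = 0
        rw [Matrix.toLin'_one]
        exact sub_self _)
    (by rw [Matrix.charpoly_toLin']; exact hsq) (N := Matrix.toLin' (B - 1))
    (by
      show Matrix.toLin' (B - 1) ∘ₗ Matrix.toLin' A = Matrix.toLin' A ∘ₗ Matrix.toLin' (B - 1)
      rw [← Matrix.toLin'_mul, ← Matrix.toLin'_mul, sub_mul, mul_sub, one_mul, mul_one, hAB])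
    (hnil.map (Matrix.toLinAlgEquiv' : _ ≃ₐ[F] _))
  have hB1 : B = 1 := by
    have := Matrix.toLin'.injective (hN.trans (map_zero _).symm)
    exact sub_eq_zero.1 this
  exact hp.out.ne_one (hu ▸ orderOf_eq_one_iff.2 (Subtype.ext hB1))

/-- An element of order `r p`. -/
theorem exists_commuting {m : ℕ} (hr : r.Prime) (hrp : r ≠ p)
    (hdvd : r ∣ Nat.card (Matrix.symplecticGroup (Fin m) F)) :
    ∃ g : Matrix.symplecticGroup (Fin (1 + m)) F, orderOf g = r * p := by
  haveI := Fact.mk hr
  obtain ⟨x₀, hx₀⟩ := exists_prime_orderOf_dvd_card' r hdvd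
  set x := Schur.SpFam.em 1 x₀
  have hinj : Function.Injective (Schur.SpFam.em (F := F) (n := m) 1) := fun g h hgh => ext_app fun y =>
    Schur.SpFam.pad_injective (k := 1) (by
      rw [← Schur.SpFam.app_em_pad, ← Schur.SpFam.app_em_pad, hgh])
  have hox : orderOf x = r := (orderOf_injective _ hinj x₀).trans hx₀
  set v : Fin (1 + m) ⊕ Fin (1 + m) → F := Pi.single (.inl (Fin.castAdd m 0)) 1
  have hres : Schur.SpFam.res 1 v = 0 := by
    funext i
    rcases i with i | i
    · show (Pi.single (Sum.inl (Fin.castAdd m 0)) (1 : F) : Fin (1 + m) ⊕ Fin (1 + m) → F)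
        (Sum.inl (Fin.natAdd 1 i)) = 0
      exact Pi.single_eq_of_ne (fun h => by simp [Fin.ext_iff] at h) _
    · exact Pi.single_eq_of_ne (fun h => by simp at h) _
  have hfix : app x v = v := by
    rw [Schur.SpFam.app_em, hres]
    simp [app, Matrix.mulVec_zero]
  set u := T v (1 : F)
  have hcomm : Commute x u := by
    have h := conj_T x v (1 : F)
    rw [hfix, mul_inv_eq_iff_eq_mul] at h
    exact h
  have hTpow : ∀ j : ℕ, u ^ j = T v (j : F) := fun j => by
    induction j with
    | zero => rw [pow_zero, Nat.cast_zero, T_zero]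
    | succ j ih => rw [pow_succ, ih, T_mul, Nat.cast_succ]
  have hu1 : u ≠ 1 := fun h => by
    set w : Fin (1 + m) ⊕ Fin (1 + m) → F := Pi.single (.inr (Fin.castAdd m 0)) 1
    have e := congrArg (fun g => app g w) h
    simp only [u, app_T, app_one] at e
    have e2 := congrFun e (.inl (Fin.castAdd m 0))
    rw [f_swap v w, f_inr] at e2
    simp [v, w] at e2
  have hou : orderOf u = p := orderOf_eq_prime (by rw [hTpow, CharP.cast_eq_zero, T_zero]) hu1
  exact ⟨x * u, by rw [hcomm.orderOf_mul_eq_mul_orderOf_of_coprime (by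
    rw [hox, hou]; exact (Nat.coprime_primes hr hp.out).2 hrp), hox, hou]⟩

/-- Orders in the symplectic group and its projective quotient. -/
theorem mem_range_iff (hr : r.Prime) (hr2 : r ≠ 2) (hrp : r ≠ p) :
    r * p ∈ Set.range (orderOf : Cfsg.PSp n F → ℕ) ↔
      ∃ g : Matrix.symplecticGroup (Fin n) F, orderOf g = r * p := by
  have hrpc : r.Coprime p := (Nat.coprime_primes hr hp.out).2 hrp
  constructor
  · rintro ⟨y, hy⟩
    obtain ⟨g, rfl⟩ := QuotientGroup.mk_surjective y
    have hmem : g ^ (r * p) ∈ Subgroup.center (Matrix.symplecticGroup (Fin n) F) := by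
      rw [← QuotientGroup.eq_one_iff, QuotientGroup.mk_pow, ← hy, pow_orderOf_eq_one]
    have hdvd : r * p ∣ orderOf g := hy ▸ orderOf_map_dvd (QuotientGroup.mk' _) g
    by_cases h2 : p = 2
    · exact ⟨g, Nat.dvd_antisymm (orderOf_dvd_of_pow_eq_one (center_eq_bot_of_two h2 hmem)) hdvd⟩
    refine ⟨g ^ 2, Nat.dvd_antisymm (orderOf_dvd_of_pow_eq_one ?_) ?_⟩
    · rw [← pow_mul, mul_comm 2, pow_mul, pow_two]
      exact center_sq hmem
    · have h3 : orderOf ((g : Cfsg.PSp n F) ^ 2) = r * p := by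
        rw [Nat.Coprime.orderOf_pow, hy]
        rw [hy]
        exact Nat.Coprime.mul_left ((Nat.coprime_primes hr Nat.prime_two).2 hr2)
          ((Nat.coprime_primes hp.out Nat.prime_two).2 h2)
      rw [← h3, ← QuotientGroup.mk_pow]
      exact orderOf_map_dvd (QuotientGroup.mk' _) (g ^ 2)
  · rintro ⟨g, hg⟩
    refine ⟨(g : Cfsg.PSp n F), Nat.dvd_antisymm (hg ▸ orderOf_map_dvd (QuotientGroup.mk' _) g) ?_⟩
    set o := orderOf (g : Cfsg.PSp n F)
    have hmem : g ^ o ∈ Subgroup.center (Matrix.symplecticGroup (Fin n) F) := by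
      rw [← QuotientGroup.eq_one_iff, QuotientGroup.mk_pow, pow_orderOf_eq_one]
    by_cases h2 : p = 2
    · exact hg ▸ orderOf_dvd_of_pow_eq_one (center_eq_bot_of_two h2 hmem)
    have h := orderOf_dvd_of_pow_eq_one (x := g) (n := o * 2) (by
      rw [pow_mul, pow_two]; exact center_sq hmem)
    rw [hg] at h
    exact (Nat.Coprime.mul_left ((Nat.coprime_primes hr Nat.prime_two).2 hr2)
      ((Nat.coprime_primes hp.out Nat.prime_two).2 h2)).dvd_of_dvd_mul_right h

/-- The criterion. -/
theorem non_adjacent_iff (hn : 2 ≤ n) (hr : r.Prime) (hr2 : r ≠ 2) (hrp : r ≠ p)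
    (hrG : r ∣ Nat.card (Cfsg.PSp n F)) {k η : ℕ} (hk : k = orderOf ((Fintype.card F : ℕ) : ZMod r))
    (hη : (Odd k ∧ η = k) ∨ (Even k ∧ 2 * η = k)) :
    r * p ∉ Set.range (orderOf : Cfsg.PSp n F → ℕ) ↔ n - 1 < η := by
  haveI := Fact.mk hr
  set q := Fintype.card F
  have hq0 : ¬ r ∣ q := by
    obtain ⟨e, -, he⟩ := FiniteField.card F p
    show ¬ r ∣ Fintype.card F
    rw [he]
    exact fun h => hrp ((Nat.prime_dvd_prime_iff_eq hr hp.out).1 (hr.dvd_of_dvd_pow h))
  have hqz : (q : ZMod r) ≠ 0 := by rwa [Ne, ZMod.natCast_eq_zero_iff]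
  have hk0 : 0 < k := hk ▸ (orderOf_pos_iff.2 (isOfFinOrder_iff_pow_eq_one.2
    ⟨r - 1, by have := hr.two_le; omega, ZMod.pow_card_sub_one_eq_one hqz⟩))
  have hdvd : ∀ j, r ∣ q ^ j - 1 ↔ k ∣ j := fun j => by
    rw [hk, orderOf_dvd_iff_pow_eq_one, ← ZMod.natCast_eq_zero_iff,
      Nat.cast_sub (Nat.one_le_pow _ _ Fintype.card_pos), sub_eq_zero, Nat.cast_pow, Nat.cast_one]
  have hdvd' : ∀ m : ℕ, r ∣ Nat.card (Matrix.symplecticGroup (Fin m) F) ↔ η ≤ m ∧ 0 < m := fun m => by
    rw [SympTrans.card_symplectic, Nat.card_eq_fintype_card]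
    constructor
    · intro h
      rcases hr.dvd_mul.1 h with h | h
      · exact absurd (hr.dvd_of_dvd_pow h) hq0
      obtain ⟨i, hi, hd⟩ := (Prime.dvd_finsetProd_iff hr.prime _).1 h
      rw [Finset.mem_range] at hi
      rw [hdvd] at hd
      refine ⟨?_, by omega⟩
      rcases hη with ⟨ho, rfl⟩ | ⟨-, he⟩
      · have := Nat.le_of_dvd (by omega) ((Nat.Coprime.dvd_mul_left
          (Nat.coprime_two_right.2 ho)).1 hd)
        omega
      · have := Nat.le_of_dvd (by omega) hd
        omega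
    · rintro ⟨h, hm⟩
      refine dvd_mul_of_dvd_right ((Prime.dvd_finsetProd_iff hr.prime _).2
        ⟨η - 1, Finset.mem_range.2 (by omega), (hdvd _).2 ?_⟩) _
      rcases hη with ⟨-, rfl⟩ | ⟨-, he⟩
      · rw [show η - 1 + 1 = η by omega]; exact dvd_mul_left _ _
      · rw [show η - 1 + 1 = η by omega, he]
  have hηn : η ≤ n := ((hdvd' n).1 (hrG.trans (Subgroup.card_quotient_dvd_card _))).1
  rw [mem_range_iff hr hr2 hrp]
  constructor
  · intro h
    by_contra hle
    refine h ?_
    obtain ⟨m, rfl⟩ : ∃ m, n = 1 + m := ⟨n - 1, by omega⟩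
    exact exists_commuting hr hrp ((hdvd' m).2 ⟨by omega, by omega⟩)
  · rintro hlt ⟨g, hg⟩
    have hcase : k = 2 * n ∨ (Odd k ∧ k = n) := by
      rcases hη with ⟨ho, rfl⟩ | ⟨-, he⟩
      · exact Or.inr ⟨ho, by omega⟩
      · exact Or.inl (by omega)
    refine no_commuting hn hr hrp hk hcase (x := g ^ p) (u := g ^ r) ?_ ?_
      ((Commute.refl g).pow_pow p r)
    · rw [orderOf_pow' _ hp.out.ne_zero, hg, Nat.gcd_eq_right (dvd_mul_left p r),
        Nat.mul_div_cancel _ hp.out.pos]
    · rw [orderOf_pow' _ hr.ne_zero, hg, Nat.gcd_eq_right (dvd_mul_right r p),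
        Nat.mul_div_cancel_left _ hr.pos]

end CfsgLib.SympPrimeGraph
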