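import Cfsg.Agent.Lib.SteinbergSemisimple.Module
import Mathlib.LinearAlgebra.Semisimple

/-!
A semisimple operator commuting with a nonzero nilpotent one has a repeated factor in its
characteristic polynomial.
-/

set_option autoImplicit false
set_option linter.unusedSectionVars false

namespace CfsgLib.SympPrimeGraph

open Polynomial CfsgLib.SteinbergSemisimple

variable {F : Type*} [Field F] [Fintype F]

section mod

variable {M : Type*} [AddCommGroup M] [Module F M] [Module F[X] M] [IsScalarTower F F[X] M]
  [Finite M] [IsSemisimpleModule F[X] M]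

theorem charpoly_top : (mulX (F := F) M).charpoly = subCharpoly (⊤ : Submodule F[X] M) :=
  charpoly_congr (F := F) (Submodule.topEquiv (R := F[X]) (M := M))

theorem dvd_of_annihilate {R P : F[X]} (hR : ∀ v : M, R • v = 0) (hP : Irreducible P)
    (hPm : P.Monic) : ∀ N : Submodule F[X] M, P ∣ subCharpoly N → P ∣ R := by
  intro N
  induction N using WellFoundedLT.induction with
  | _ N ih =>
    intro hd
    rcases eq_or_ne N ⊥ with rfl | hN
    · have h0 : subCharpoly (⊥ : Submodule F[X] M) = 1 := by
        refine (LinearMap.charpoly_monic _).natDegree_eq_zero.1 ?_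
        rw [LinearMap.charpoly_natDegree]
        exact Module.finrank_zero_of_subsingleton
      exact absurd (isUnit_of_dvd_one (h0 ▸ hd)) hP.not_isUnit
    obtain ⟨A, hAN, hA⟩ := exists_simple_le hN
    obtain ⟨B, hB1, hB2⟩ := exists_compl_in hAN
    have : IsSimpleModule F[X] A := isSimpleModule_iff_isAtom.2 hA
    obtain ⟨f, hfm, hf, hcp, -, -, ⟨e⟩⟩ := simple_data (F := F) (A := A)
    obtain ⟨hsp, -, -⟩ := split hB1 hB2
    have hlt : B < N := by
      refine lt_of_le_of_ne (hB1 ▸ le_sup_right) fun h => hA.1 ?_
      rw [← inf_eq_left.2 hAN, ← h, hB2]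
    rw [hsp, show subCharpoly A = f from hcp] at hd
    rcases hP.prime.dvd_or_dvd hd with h | h
    · rw [eq_of_monic_of_associated hPm hfm (hP.associated_of_dvd hf h), ← Ideal.mem_span_singleton,
        ← Submodule.Quotient.mk_eq_zero]
      obtain ⟨v, hv⟩ := e.surjective (Submodule.Quotient.mk 1)
      have h2 := congrArg e (Subtype.ext (hR v) : R • v = 0)
      rw [map_smul, map_zero, hv, ← Submodule.Quotient.mk_smul, smul_eq_mul, mul_one] at h2
      exact h2
    · exact ih B hlt h

theorem not_squarefree {N : M →ₗ[F[X]] M} (hN : N ≠ 0) (hnil : IsNilpotent N) :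
    ¬ Squarefree (mulX (F := F) M).charpoly := by
  intro hsq
  obtain ⟨C, hC⟩ := exists_isCompl (LinearMap.ker N)
  obtain ⟨hsp, -, -⟩ := split hC.sup_eq_top hC.inf_eq_bot
  let e : C ≃ₗ[F[X]] LinearMap.range N :=
    (Submodule.quotientEquivOfIsCompl _ _ hC).symm.trans N.quotKerEquivRange
  set U := LinearMap.ker N ⊓ LinearMap.range N
  have hU : U ≠ ⊥ := by
    obtain ⟨m, hm⟩ := hnil
    classical
    have hex : ∃ k, N ^ k = 0 := ⟨m, hm⟩
    have hk := Nat.find_spec hex
    rcases hk0 : Nat.find hex with _ | k
    · rw [hk0, pow_zero] at hk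
      exact absurd (by rw [← one_mul N, hk, zero_mul] : N = 0) hN
    rw [hk0] at hk
    have hne : N ^ k ≠ 0 := Nat.find_min hex (by omega)
    rcases k with _ | k
    · rw [pow_one] at hk
      exact absurd hk hN
    obtain ⟨v, hv⟩ : ∃ v, (N ^ (k + 1)) v ≠ 0 := by
      by_contra h
      push Not at h
      exact hne (LinearMap.ext h)
    intro h
    refine hv ((Submodule.mem_bot F[X]).1 (h ▸ Submodule.mem_inf.2 ⟨?_, ?_⟩))
    · rw [LinearMap.mem_ker, ← Module.End.mul_apply, ← pow_succ', hk, LinearMap.zero_apply]
    · rw [pow_succ', Module.End.mul_apply]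
      exact LinearMap.mem_range_self N _
  have hdvd : ∀ {X' : Submodule F[X] M}, U ≤ X' → subCharpoly U ∣ subCharpoly X' := fun hle => by
    obtain ⟨B, h1, h2⟩ := exists_compl_in hle
    exact ⟨subCharpoly B, (split h1 h2).1⟩
  have hC' : subCharpoly C = subCharpoly (LinearMap.range N) := (charpoly_congr (F := F) e).symm
  have hmul : subCharpoly U * subCharpoly U ∣ (mulX (F := F) M).charpoly := by
    rw [charpoly_top, hsp, hC']
    exact mul_dvd_mul (hdvd inf_le_left) (hdvd inf_le_right)
  have hunit := hsq _ hmul
  have h0 : (subCharpoly U).natDegree = 0 := natDegree_eq_zero_of_isUnit hunit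
  rw [subCharpoly, LinearMap.charpoly_natDegree] at h0
  have : Nontrivial U := (Submodule.nontrivial_iff_ne_bot).2 hU
  exact Module.finrank_pos.ne' h0

end mod

section endo

variable {V : Type*} [AddCommGroup V] [Module F V] [Finite V]

instance (f : Module.End F V) : Finite (Module.AEval' f) :=
  Finite.of_equiv V (Module.AEval'.of f).toEquiv

theorem charpoly_mulX (f : Module.End F V) :
    (mulX (F := F) (Module.AEval' f)).charpoly = f.charpoly := by
  rw [← LinearEquiv.charpoly_conj (Module.AEval'.of f) f]
  congr 1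
  refine LinearMap.ext fun v => ?_
  show (X : F[X]) • v = Module.AEval'.of f (f ((Module.AEval'.of f).symm v))
  rw [← Module.AEval'.X_smul_of, LinearEquiv.apply_symm_apply]

theorem aeval_smul_zero {f : Module.End F V} {R : F[X]} (hR : aeval f R = 0) (v : Module.AEval' f) :
    R • v = 0 := by
  rw [← (Module.AEval'.of f).apply_symm_apply v, ← Module.AEval.of_aeval_smul, hR, zero_smul, map_zero]

theorem dvd_of_dvd_charpoly {f : Module.End F V} {R P : F[X]} (hs : Squarefree R)
    (hR : aeval f R = 0) (hP : Irreducible P) (hPm : P.Monic) (hd : P ∣ f.charpoly) : P ∣ R := by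
  have : IsSemisimpleModule F[X] (Module.AEval' f) :=
    Module.End.isSemisimple_of_squarefree_aeval_eq_zero hs hR
  rw [← charpoly_mulX, charpoly_top] at hd
  exact dvd_of_annihilate (aeval_smul_zero hR) hP hPm _ hd

theorem eq_zero_of_squarefree {f : Module.End F V} {R : F[X]} (hs : Squarefree R)
    (hR : aeval f R = 0) (hsq : Squarefree f.charpoly) {N : Module.End F V} (hc : Commute N f)
    (hN : IsNilpotent N) : N = 0 := by
  have : IsSemisimpleModule F[X] (Module.AEval' f) :=
    Module.End.isSemisimple_of_squarefree_aeval_eq_zero hs hR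
  let T : Module.AEval' f →ₗ[F[X]] Module.AEval' f :=
    LinearMap.ofAEval _ ((Module.AEval'.of f).toLinearMap.comp N) fun v => by
      show Module.AEval'.of f (N (f v)) = (X : F[X]) • Module.AEval'.of f (N v)
      rw [Module.AEval'.X_smul_of]
      exact congrArg (Module.AEval'.of f) (LinearMap.congr_fun hc.eq v)
  have hT : ∀ v, T (Module.AEval'.of f v) = Module.AEval'.of f (N v) := fun v => by
    show Module.AEval'.of f (N ((Module.AEval'.of f).symm (Module.AEval'.of f v))) = _
    rw [LinearEquiv.symm_apply_apply]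
  have hTk : ∀ k v, (T ^ k) (Module.AEval'.of f v) = Module.AEval'.of f ((N ^ k) v) := by
    intro k
    induction k with
    | zero => intro v; rfl
    | succ k ih =>
      intro v
      rw [pow_succ, pow_succ, Module.End.mul_apply, Module.End.mul_apply, hT, ih]
  have hT0 : T = 0 := by
    by_contra h0
    refine not_squarefree h0 ?_ (by rw [charpoly_mulX]; exact hsq)
    obtain ⟨k, hk⟩ := hN
    refine ⟨k, LinearMap.ext fun v => ?_⟩
    obtain ⟨w, rfl⟩ := (Module.AEval'.of f).surjective v
    rw [hTk, hk, LinearMap.zero_apply, map_zero, LinearMap.zero_apply]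
  refine LinearMap.ext fun v => (Module.AEval'.of f).injective ?_
  rw [← hT, hT0, LinearMap.zero_apply, LinearMap.zero_apply, map_zero]

end endo

end CfsgLib.SympPrimeGraph
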